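/-
Invariants of principal 3-blocks with extraspecial defect group of order 27 and exponent 3.
-/
import Cfsg.Agent.X3.Ch4
import Cfsg.Agent.S1946
set_option autoImplicit false
set_option linter.unusedSectionVars false

namespace CF.X3
open Cfsg CF.Char CF.BlockB CF.ABGc CF.BG Finset Subgroup
open scoped ComplexConjugate _root_.Classical

variable {M : Ideal AlgInt} {G : Type*} [Group G]

theorem dpos {χ : G → ℂ} (h : IsIrrCharacter G χ) : 0 < charDegree χ := by
  obtain ⟨n, h0, hn⟩ := irr_one_eq_nat h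
  rwa [charDegree_of_eq hn]

theorem card_S0 [Fintype G] (hM : IsPModular 3 M) : Nat.card {χ : IrrCharacter G //
    χ ∈ principalBlock M G ∧ blockHeight 3 (principalBlock M G) (χ : G → ℂ) = 0} = (S0 M G).card := by
  rw [← Fintype.card_coe, ← Nat.card_eq_fintype_card]
  refine Nat.card_congr ((Equiv.subtypeEquivRight fun χ => ?_).trans
    (Equiv.subtypeSubtypeEquivSubtypeExists _ _).symm)
  simp only [S0, mem_filter, mem_univ, true_and, exists_prop, mem_pb, blockHeight_eq,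
    minExp_principal hM, Nat.sub_zero, Nat.factorization_eq_zero_iff, p3, not_true, false_or,
    (dpos χ.2).ne', or_false]

theorem nil_case [Fintype G] (hM : IsPModular 3 M) (N : Subgroup G) [N.Normal] (a : ¬ 3 ∣ Nat.card N)
    (b : N.index = 3 ^ 3) (k : Nat.card (PB M G) = 11) : (S0 M G).card = 9 := by
  have e := sum_pb_norm_sq_of_npc hM N a b 1
  rw [QuotientGroup.mk_one, card_centralizer_one, ← index, b, ← sum_coe_sort (pb M G),
    sum_congr rfl (g := fun χ : Ix M G => ((charDegree (χ.1 : G → ℂ) ^ 2 : ℕ) : ℝ)) fun χ _ => by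
      rw [← charDegree_eq (irr_isCharacter χ.1.2)]; simp, ← Nat.cast_sum, Nat.cast_inj,
    ← sum_add_sum_compl (S0 M G), sum_congr rfl (g := fun _ => 1) fun χ hχ => ?_] at e
  · have k' : Nat.card (PB M G) = (S0 M G).card + (S0 M G)ᶜ.card := by
      rw [card_add_card_compl, ← Nat.card_eq_fintype_card]
      exact Nat.card_congr (Equiv.subtypeEquivRight fun _ => mem_pb.symm)
    have d : ∀ χ ∈ (S0 M G)ᶜ, 9 ∣ charDegree (χ.1 : G → ℂ) ^ 2 := fun χ hχ =>
      pow_dvd_pow_of_dvd (show 3 ∣ _ by simpa [S0] using hχ) 2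
    have d1 := dvd_sum d
    have d2 := sum_le_sum (g := fun χ : Ix M G => charDegree (χ.1 : G → ℂ) ^ 2) fun χ hχ =>
      Nat.le_of_dvd (pow_pos (dpos χ.1.2) 2) (d χ hχ)
    simp only [sum_const, smul_eq_mul] at e d2
    omega
  · obtain ⟨ψ, hψ, e⟩ := exists_irr_quotient χ.1.2 N ((mem_pb_iff_of_npc hM N a b).1 (mem_pb.1 χ.2))
    have d := charDegree_dvd_card (G := G ⧸ N) ⟨ψ, hψ⟩
    have e' : charDegree (χ.1 : G → ℂ) = charDegree ψ := by rw [e]; simp [charDegree]
    rw [← index, b] at d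
    obtain ⟨j, -, e⟩ := (Nat.dvd_prime_pow p3).1 d
    simp only [S0, mem_filter, mem_univ, true_and, e'] at hχ
    change charDegree ψ = _ at e
    rw [e', e]
    rcases j with _ | j
    · simp
    · exact absurd (e ▸ dvd_pow_self 3 j.succ_ne_zero) hχ

theorem rank_npc [Finite G] (hM : IsPModular 3 M) (h : HasNormalPComplement 3 G) :
    blockRank 3 (PB M G) = 1 := by
  haveI := Fact.mk p3
  obtain ⟨Q, N, _, c⟩ := h
  obtain ⟨k, hk⟩ := Q.isPGroup'.exists_card_eq
  exact blockRank_pb_of_npc hM N (c.index_eq_card ▸ Q.not_dvd_index) (c.symm.index_eq_card.trans hk)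

theorem final [Finite G] (hM : IsPModular 3 M) (P : Sylow 3 G) (hE : IsExtraspecial 3 (P : Subgroup G))
    (h27 : Nat.card (P : Subgroup G) = 27) (hexp : ∀ x ∈ (P : Subgroup G), x ^ 3 = 1)
    (hNC : ∀ g ∈ 𝐍 (P : Subgroup G), ∀ z ∈ (P : Subgroup G),
      (∀ y ∈ (P : Subgroup G), z * y = y * z) → g * z = z * g) :
    let k := Nat.card (principalBlock M G)
    let k₀ := Nat.card {χ : IrrCharacter G //
      χ ∈ principalBlock M G ∧ blockHeight 3 (principalBlock M G) (χ : G → ℂ) = 0}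
    let l := blockRank 3 (principalBlock M G)
    let e := ((P : Subgroup G) ⊔ 𝐂 (P : Subgroup G)).relIndex (𝐍 (P : Subgroup G))
    (e = 1 → k = 11 ∧ k₀ = 9 ∧ l = 1) ∧ (e = 2 → k = 10 ∧ k₀ = 6 ∧ l = 2) ∧
      (e = 4 → k = 14 ∧ k₀ = 6 ∧ l = 4) ∧ (e = 8 → k = 16 ∧ k₀ = 6 ∧ l = 5) := by
  intro k k₀ l e
  haveI := Fintype.ofFinite G
  haveI := Fact.mk p3
  have cZ : ♯(𝐙 (P : Subgroup G)) = 3 := by
    rw [← center_map_subtype, card_map (subtype_injective _), hE.2]
  obtain ⟨z, hz, z1⟩ := exists_mem_ne_one (ne_bot_of_prime_card (by rw [cZ]; exact p3 : (♯(𝐙 (P : Subgroup G))).Prime))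
  have eZ := zpowers_eq_of_prime (by rw [cZ]; exact p3) hz z1
  have h : Ex (P : Subgroup G) z := ⟨syl_sylow_top P, h27, hexp, hz.1, z1, fun x a b => eZ ▸ ⟨a, b⟩,
    by rw [eZ, ← center_map_subtype, ← hE.1.2.2, map_subtype_commutator],
    fun g hg => mem_cent1.2 (hNC g hg z hz.1 fun y hy => (mem_cent.1 hz.2 y hy).symm)⟩
  obtain ⟨n, U, r⟩ := h.exists_rp
  have c : Fintype.card (Fin n) * e = 8 := r.card h
  have f' := (r.sub h).fu h.sub
  have f : Fu z fun i => ((⟨U i, h.PH (r.mem i)⟩ : Cen z) : G) := r.fu h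
  have k0 : k₀ = _ := card_S0 hM
  have ev : 2 ∣ e → k + 2 * Fintype.card (Fin n) = 18 ∧ k₀ = 6 ∧ l + Fintype.card (Fin n) = 6 := by
    intro ev
    haveI : Nonempty (Fin n) := Fintype.card_pos_iff.1 (Nat.pos_of_ne_zero fun c0 => by simp [c0] at c)
    have c' := (r.sub h).card h.sub
    rw [k0]
    refine main hM f f' (fun i => h.sub.real ?_ ((r.sub h).mem i) ((r.sub h).nz i)) fun c3 => ?_
    · rwa [Nat.eq_of_mul_eq_mul_left Fintype.card_pos (c'.trans c.symm)]
    · have : 3 ∣ 8 := c ▸ (Nat.dvd_of_mod_eq_zero c3).mul_right e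
      omega
  refine ⟨fun e1 => ?_, fun e1 => ?_, fun e1 => ?_, fun e1 => ?_⟩
  · have np : HasNormalPComplement 3 G := (Cfsg.Agent.S1946.result P).2 fun a ha _ g hg => by
      by_cases m : a ∈ zpowers z
      · refine ⟨1, one_mem _, ?_⟩
        rcases mem_three h.oz m with rfl | rfl | rfl
        · simp
        · simp [h.wk hg]
        · have := h.wk (g := g) (by simpa [mul_assoc] using inv_mem hg)
          rw [one_mul, inv_one, mul_one]; nth_rewrite 2 [← this]; group
      · obtain ⟨y, hy, e2⟩ := h.fus ha m hg rfl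
        obtain ⟨x, hx, e3⟩ : y * a * y⁻¹ ∈ cls P a := h.cls_K ha ▸ ⟨y, relIndex_eq_one.1 e1 hy, rfl⟩
        exact ⟨x, hx, by rw [e3, e2]⟩
    have l1 : l = 1 := rank_npc hM np
    have l2 := rank_npc hM ((npc_iff p3).1 (((npc_iff p3).2
      ((CF.Transfer.hasNPC_congr topEquiv).2 np)).mono (le_top : Cen z ≤ ⊤)))
    have k1 : k = 11 := by
      have : k = l + _ := card_pb hM f f'
      rw [e1] at c
      omega
    obtain ⟨Q, N, _, cc⟩ := np
    refine ⟨k1, k0.trans (nil_case hM N (cc.index_eq_card ▸ Q.not_dvd_index) ?_ k1), l1⟩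
    rw [cc.symm.index_eq_card, Nat.card_congr (Q.equiv P).toEquiv, h27]; rfl
  all_goals
    have := ev (by simp [e1])
    rw [e1] at c
    omega

end CF.X3
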